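import Mathlib
import Cfsg.Prelude.Def_Transfer
import Cfsg.Agent.H18.SquaresCounts
import Cfsg.Agent.H39.SylowWreath

/-!
Large normal elementary abelian subgroups in Sylow 2-subgroups of `GL n q`, `q` odd.
-/

set_option autoImplicit false

namespace H39.NR

open Matrix
open scoped Pointwise

theorem exists_normal_elem {G H : Type*} [Group G] [Finite G] [Group H] (f : H →* G)
    (hf : Function.Injective f) (E : Subgroup H) [hn : E.Normal] (hE : Cfsg.IsElementaryAbelian 2 E)
    (hv : (Nat.card H).factorization 2 = (Nat.card G).factorization 2) (S : Sylow 2 G) :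
    ∃ E' : Subgroup (S : Subgroup G), E'.Normal ∧ Cfsg.IsElementaryAbelian 2 E' ∧
      Nat.card E ≤ Nat.card E' := by
  classical
  haveI : Fact (Nat.Prime 2) := ⟨Nat.prime_two⟩
  haveI : Finite H := Finite.of_injective f hf
  have hp : IsPGroup 2 E := fun x => ⟨1, Subtype.ext (by simpa using hE.2 _ x.2)⟩
  obtain ⟨P, hP⟩ := hp.exists_le_sylow
  have hcard : Nat.card ((P : Subgroup H).map f) = 2 ^ (Nat.card G).factorization 2 := by
    rw [Subgroup.card_map_of_injective (f := f) hf, P.card_eq_multiplicity, hv]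
  obtain ⟨g, hg⟩ := MulAction.exists_smul_eq G (Sylow.ofCard ((P : Subgroup H).map f) hcard) S
  let φ : H →* G := (MulAut.conj g).toMonoidHom.comp f
  have hφ : Function.Injective φ := (MulAut.conj g).injective.comp hf
  have hmap : (P : Subgroup H).map φ = (S : Subgroup G) := by
    rw [← hg]
    show _ = MulAut.conj g • (Sylow.ofCard ((P : Subgroup H).map f) hcard : Subgroup G)
    rw [Sylow.coe_ofCard]
    exact (Subgroup.map_map _ _ _).symm
  let e : (P : Subgroup H) ≃* (S : Subgroup G) :=
    ((P : Subgroup H).equivMapOfInjective φ hφ).trans (MulEquiv.subgroupCongr hmap)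
  refine ⟨(E.subgroupOf (P : Subgroup H)).map e.toMonoidHom,
    (hn.subgroupOf _).map _ e.surjective, ⟨?_, ?_⟩, ?_⟩
  · refine ⟨⟨fun a b => ?_⟩⟩
    obtain ⟨a', ha, ea⟩ := a.2
    obtain ⟨b', hb, eb⟩ := b.2
    apply Subtype.ext
    show (a : (S : Subgroup G)) * b = b * a
    rw [← ea, ← eb, ← map_mul, ← map_mul]
    haveI := hE.1
    exact congrArg e.toMonoidHom (Subtype.ext (congrArg (fun y : E => (y : H))
      (mul_comm' (⟨(a' : H), ha⟩ : E) ⟨(b' : H), hb⟩)))
  · rintro _ ⟨a, ha, rfl⟩
    rw [← map_pow, show a ^ 2 = 1 from Subtype.ext (hE.2 _ ha), map_one]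
  · rw [Subgroup.card_map_of_injective (f := e.toMonoidHom) e.injective,
      Nat.card_congr (Subgroup.subgroupOfEquivOfLe hP).toEquiv]

variable {F : Type*} [Field F] {b l : Type} [Fintype b] [DecidableEq b] [Fintype l] [DecidableEq l]

/-- Permutation of the blocks. -/
def blockAct : Equiv.Perm l →* MulAut (l → GL b F) where
  toFun σ :=
    { toFun := fun g i => g (σ.symm i)
      invFun := fun g i => g (σ i)
      left_inv := fun g => funext fun i => by simp
      right_inv := fun g => funext fun i => by simp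
      map_mul' := fun _ _ => rfl }
  map_one' := MulEquiv.ext fun _ => rfl
  map_mul' _ _ := MulEquiv.ext fun _ => rfl

/-- Block diagonal elements. -/
def dHom : (l → GL b F) →* GL (b × l) F :=
  MonoidHom.toHomUnits
    { toFun := fun g => blockDiagonal fun i => (g i : Matrix b b F)
      map_one' := by
        show blockDiagonal (1 : l → Matrix b b F) = 1
        exact blockDiagonal_one
      map_mul' := fun g h => by
        show blockDiagonal (fun i => (g i : Matrix b b F) * (h i : Matrix b b F)) = _
        exact blockDiagonal_mul _ _ }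

/-- Permutation matrices of the blocks. -/
def pHom : Equiv.Perm l →* GL (b × l) F :=
  MonoidHom.toHomUnits
    { toFun := fun σ => ((Equiv.refl b).prodCongr σ).symm.toPEquiv.toMatrix
      map_one' := by
        show ((Equiv.refl (b × l)).toPEquiv.toMatrix : Matrix (b × l) (b × l) F) = 1
        simp
      map_mul' := fun σ τ => by
        rw [← PEquiv.toMatrix_trans, ← Equiv.toPEquiv_trans]
        rfl }

theorem dHom_val (g : l → GL b F) :
    (dHom g : Matrix (b × l) (b × l) F) = blockDiagonal fun i => (g i : Matrix b b F) := rfl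

theorem pHom_val (σ : Equiv.Perm l) : ((pHom (b := b) (F := F) σ : GL (b × l) F) : Matrix (b × l) (b × l) F) =
    ((Equiv.refl b).prodCongr σ).symm.toPEquiv.toMatrix := rfl

theorem pHom_conj (σ : Equiv.Perm l) (g : l → GL b F) :
    dHom (blockAct σ g) = pHom σ * dHom g * (pHom σ)⁻¹ := by
  rw [eq_mul_inv_iff_mul_eq]
  refine Units.ext ?_
  rw [Units.val_mul, Units.val_mul, pHom_val, dHom_val, dHom_val, PEquiv.toMatrix_toPEquiv_mul,
    PEquiv.mul_toMatrix_toPEquiv]
  ext ⟨x, i⟩ ⟨y, j⟩
  simp [blockDiagonal_apply, blockAct, Equiv.prodCongr_symm, Equiv.symm_apply_eq]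

/-- The wreath product of `GL b` with the symmetric group of the blocks. -/
abbrev Wreath (b l : Type) [Fintype b] [DecidableEq b] [Fintype l] [DecidableEq l] (F : Type*) [Field F] :=
  (l → GL b F) ⋊[blockAct] Equiv.Perm l

/-- Its action on the sum of the blocks. -/
def wHom : Wreath b l F →* GL (b × l) F :=
  SemidirectProduct.lift dHom pHom fun σ => MonoidHom.ext fun g => pHom_conj σ g

theorem wHom_injective [Nonempty b] : Function.Injective (wHom (b := b) (l := l) (F := F)) := by
  rw [injective_iff_map_eq_one]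
  intro x hx
  have h1 : dHom x.left * pHom x.right = (1 : GL (b × l) F) := hx
  have h2 := congrArg Units.val (eq_inv_of_mul_eq_one_left h1)
  rw [← map_inv, dHom_val, pHom_val] at h2
  obtain ⟨x0⟩ := (inferInstance : Nonempty b)
  have hσ : x.right = 1 := by
    refine Equiv.ext fun i => ?_
    by_contra hne
    have h3 := congrFun (congrFun h2 (x0, i)) (x0, x.right i)
    rw [blockDiagonal_apply, if_neg (fun h => hne h.symm), PEquiv.toMatrix_apply] at h3
    simp [Equiv.toPEquiv_apply, Equiv.Perm.inv_def] at h3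
  rw [hσ, map_one, mul_one] at h1
  refine SemidirectProduct.ext (funext fun i => ?_) hσ
  refine Units.ext (Matrix.ext fun a c => ?_)
  have h4 : ((dHom x.left : GL (b × l) F) : Matrix (b × l) (b × l) F) = ((1 : GL (b × l) F) : Matrix (b × l) (b × l) F) := by rw [h1]
  have h3 := congrFun (congrFun h4 (a, i)) (c, i)
  rw [dHom_val, blockDiagonal_apply_eq, Units.val_one] at h3
  show ((x.left i : GL b F) : Matrix b b F) a c = (1 : Matrix b b F) a c
  rw [h3]
  simp [Matrix.one_apply, Prod.mk.injEq]

theorem card_wreath [Finite F] :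
    Nat.card (Wreath b l F) = Nat.card (GL b F) ^ Fintype.card l * (Fintype.card l).factorial := by
  rw [SemidirectProduct.card, Nat.card_fun, Nat.card_perm, Nat.card_eq_fintype_card (α := l)]

/-- A scalar sign in every block. -/
def signHom : (l → ℤˣ) →* (l → GL b F) :=
  Pi.monoidHom fun i =>
    ((Units.map (algebraMap F (Matrix b b F)).toMonoidHom).comp
      (Units.map (Int.castRingHom F).toMonoidHom)).comp (Pi.evalMonoidHom (fun _ : l => ℤˣ) i)

theorem signHom_apply (e : l → ℤˣ) (i : l) :
    ((signHom (b := b) (F := F) e i : GL b F) : Matrix b b F) =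
      algebraMap F (Matrix b b F) (((e i : ℤˣ) : ℤ) : F) := rfl

theorem signHom_comm (e : l → ℤˣ) (g : l → GL b F) : g * signHom e = signHom e * g := by
  funext i
  refine Units.ext ?_
  simp only [Pi.mul_apply, Units.val_mul, signHom_apply]
  exact (Algebra.commutes _ _).symm

theorem unitSign_injective (h2 : (2 : F) ≠ 0) :
    Function.Injective (Units.map (Int.castRingHom F).toMonoidHom : ℤˣ →* Fˣ) := by
  rw [injective_iff_map_eq_one]
  intro u hu
  rcases Int.units_eq_one_or u with rfl | rfl
  · rfl
  · exfalso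
    have := congrArg Units.val hu
    simp at this
    exact h2 (by linear_combination -this)

theorem signHom_injective [Nonempty b] (h2 : (2 : F) ≠ 0) :
    Function.Injective (signHom (b := b) (l := l) (F := F)) := by
  intro e e' h
  funext i
  apply unitSign_injective h2
  exact Units.map_injective (f := (algebraMap F (Matrix b b F)).toMonoidHom)
    (algebraMap F (Matrix b b F)).injective (congrFun h i)

/-- The signs in the wreath product. -/
def signSub (b l : Type) [Fintype b] [DecidableEq b] [Fintype l] [DecidableEq l] (F : Type*) [Field F] :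
    Subgroup (Wreath b l F) :=
  (SemidirectProduct.inl.comp (signHom (b := b) (l := l) (F := F))).range

theorem signSub_normal : (signSub b l F).Normal := by
  refine ⟨?_⟩
  rintro _ ⟨e, rfl⟩ g
  refine ⟨fun i => e (g.right.symm i), ?_⟩
  show SemidirectProduct.inl _ = _
  have h : signHom (fun i => e (g.right.symm i)) = blockAct g.right (signHom (b := b) (F := F) e) := rfl
  rw [h, MonoidHom.comp_apply]
  conv_rhs => rw [← SemidirectProduct.inl_left_mul_inr_right g]
  have h2 : g.left * blockAct g.right (signHom (b := b) (F := F) e) * g.left⁻¹ =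
      blockAct g.right (signHom e) := by rw [← h, signHom_comm, mul_inv_cancel_right]
  conv_lhs => rw [← h2, map_mul, map_mul, map_inv, SemidirectProduct.inl_aut]
  simp only [_root_.mul_inv_rev, _root_.mul_assoc]
  rw [map_inv]

theorem signSub_elem : Cfsg.IsElementaryAbelian 2 (signSub b l F) := by
  refine ⟨⟨⟨fun a c => ?_⟩⟩, ?_⟩
  · obtain ⟨e, he⟩ := a.2
    obtain ⟨e', he'⟩ := c.2
    apply Subtype.ext
    show (a : Wreath b l F) * c = c * a
    rw [← he, ← he', ← map_mul, ← map_mul, mul_comm]
  · rintro _ ⟨e, rfl⟩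
    rw [← map_pow, show e ^ 2 = 1 from funext fun i => by rw [Pi.pow_apply]; exact Int.units_sq _, map_one]

theorem card_signSub [Nonempty b] (h2 : (2 : F) ≠ 0) :
    Nat.card (signSub b l F) = 2 ^ Fintype.card l := by
  rw [signSub, ← Nat.card_congr (MonoidHom.ofInjective
    (f := SemidirectProduct.inl.comp (signHom (b := b) (l := l) (F := F))) ?_).toEquiv]
  · rw [Nat.card_fun, Nat.card_eq_fintype_card (α := ℤˣ), Fintype.card_units_int,
      Nat.card_eq_fintype_card]
  · exact SemidirectProduct.inl_injective.comp (signHom_injective h2)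

/-- Adjoining one coordinate. -/
def extHom {ι : Type} [Fintype ι] [DecidableEq ι] : GL ι F × Fˣ →* GL (ι ⊕ Unit) F :=
  MonoidHom.toHomUnits
    { toFun := fun x => fromBlocks (x.1 : Matrix ι ι F) 0 0 ((x.2 : F) • 1)
      map_one' := by simp [fromBlocks_one]
      map_mul' := fun x y => by simp [fromBlocks_multiply, smul_smul, mul_comm] }

theorem extHom_injective {ι : Type} [Fintype ι] [DecidableEq ι] :
    Function.Injective (extHom (ι := ι) (F := F)) := by
  intro x y h
  obtain ⟨h1, -, -, h4⟩ := fromBlocks_inj.1 (congrArg Units.val h)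
  refine Prod.ext (Units.ext h1) (Units.ext ?_)
  have := congrFun (congrFun h4 ()) ()
  simpa using this

variable [Fintype F]

theorem two_ne_zero_of_odd (hodd : Odd (Fintype.card F)) : (2 : F) ≠ 0 := by
  intro h
  have hc : ringChar F = 2 := ringChar.eq_iff.2 ⟨fun x => by
    constructor
    · intro hx
      by_contra hne
      obtain ⟨k, rfl⟩ : Odd x := Nat.not_even_iff_odd.1 fun he => hne (even_iff_two_dvd.1 he)
      simp [h] at hx
    · rintro ⟨k, rfl⟩
      simp [h]⟩
  exact Nat.not_even_iff_odd.2 hodd (by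
    rw [Nat.even_iff]; exact FiniteField.even_card_iff_char_two.1 hc)

theorem val_pow_sub_one_of_mod_four_one (hq : 1 < Fintype.card F) (hodd : Odd (Fintype.card F))
    (h4 : Fintype.card F % 4 = 1) {i : ℕ} (hi : i ≠ 0) :
    (Fintype.card F ^ i - 1).factorization 2 =
      (Fintype.card F - 1).factorization 2 + i.factorization 2 := by
  rcases Nat.even_or_odd i with ⟨k, rfl⟩ | ho
  · rw [← two_mul] at hi ⊢
    rw [H18.val_pow_sub_one_even hq hodd (by omega)]
    set q := Fintype.card F
    have e : q ^ 2 - 1 = (q - 1) * (2 * ((q + 1) / 2)) := by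
      rw [show 2 * ((q + 1) / 2) = q + 1 by omega, mul_comm]
      simpa using Nat.sq_sub_sq q 1
    rw [e, Nat.factorization_mul (by omega) (by omega), Nat.factorization_mul (by omega) (by omega),
      Nat.factorization_mul (by norm_num) (by omega), Finsupp.add_apply, Finsupp.add_apply,
      Finsupp.add_apply, Nat.Prime.factorization_self Nat.prime_two,
      Nat.factorization_eq_zero_of_not_dvd (show ¬ 2 ∣ (q + 1) / 2 by omega)]
    omega
  · rw [H18.val_pow_sub_one_odd hq hodd ho,
      Nat.factorization_eq_zero_of_not_dvd (fun h => Nat.not_even_iff_odd.2 ho (even_iff_two_dvd.2 h)),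
      add_zero]

theorem val_sum_mod_four_one (hodd : Odd (Fintype.card F)) (h4 : Fintype.card F % 4 = 1) (n : ℕ) :
    ∑ i ∈ Finset.range n, (Fintype.card F ^ (i + 1) - 1).factorization 2 =
      n * (Fintype.card F - 1).factorization 2 + n.factorial.factorization 2 := by
  induction n with
  | zero => simp
  | succ n ih =>
    rw [Finset.sum_range_succ, ih, val_pow_sub_one_of_mod_four_one Fintype.one_lt_card hodd h4
      (Nat.succ_ne_zero n), H18.val_factorial_succ]
    ring

theorem val_wreath (k : ℕ) :
    (Nat.card (Wreath (Fin k) l F)).factorization 2 =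
      Fintype.card l * (Nat.card (GL (Fin k) F)).factorization 2 +
        (Fintype.card l).factorial.factorization 2 := by
  rw [card_wreath, Nat.factorization_mul (pow_ne_zero _ Nat.card_pos.ne') (Nat.factorial_ne_zero _),
    Finsupp.add_apply, Nat.factorization_pow, Finsupp.smul_apply, smul_eq_mul]

theorem exists_elem_one (hodd : Odd (Fintype.card F)) (h4 : Fintype.card F % 4 = 1) (n : ℕ)
    (S : Sylow 2 (GL (Fin n) F)) :
    ∃ E : Subgroup (S : Subgroup (GL (Fin n) F)), E.Normal ∧ Cfsg.IsElementaryAbelian 2 E ∧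
      2 ^ n ≤ Nat.card E := by
  let f : Wreath (Fin 1) (Fin n) F →* GL (Fin n) F :=
    (Wr.glMap (Matrix.reindexAlgEquiv F F (Equiv.uniqueProd (Fin n) (Fin 1)))).toMonoidHom.comp wHom
  haveI := signSub_normal (b := Fin 1) (l := Fin n) (F := F)
  have hf : Function.Injective f := fun _ _ h => wHom_injective ((Wr.glMap (Matrix.reindexAlgEquiv F F (Equiv.uniqueProd (Fin n) (Fin 1)))).injective h)
  obtain ⟨E, h1, h2, h3⟩ := exists_normal_elem f hf
    (signSub (Fin 1) (Fin n) F) signSub_elem (by
    rw [val_wreath, Fintype.card_fin, H18.val_card_gl hodd, H18.val_card_gl hodd,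
      val_sum_mod_four_one hodd h4, val_sum_mod_four_one hodd h4]
    simp) S
  rw [card_signSub (two_ne_zero_of_odd hodd), Fintype.card_fin] at h3
  exact ⟨E, h1, h2, h3⟩

theorem exists_elem_even (hodd : Odd (Fintype.card F)) (m : ℕ)
    (S : Sylow 2 (GL (Fin (2 * m)) F)) :
    ∃ E : Subgroup (S : Subgroup (GL (Fin (2 * m)) F)), E.Normal ∧ Cfsg.IsElementaryAbelian 2 E ∧
      2 ^ m ≤ Nat.card E := by
  let f : Wreath (Fin 2) (Fin m) F →* GL (Fin (2 * m)) F :=
    (Wr.glMap (Matrix.reindexAlgEquiv F F finProdFinEquiv)).toMonoidHom.comp wHom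
  haveI := signSub_normal (b := Fin 2) (l := Fin m) (F := F)
  have hf : Function.Injective f := fun _ _ h => wHom_injective ((Wr.glMap (Matrix.reindexAlgEquiv F F finProdFinEquiv)).injective h)
  obtain ⟨E, h1, h2, h3⟩ := exists_normal_elem f hf
    (signSub (Fin 2) (Fin m) F) signSub_elem (by
    rw [val_wreath, Fintype.card_fin, H18.val_card_gl2 hodd, H18.val_card_gl hodd,
      H18.sum_val_all Fintype.one_lt_card hodd]) S
  rw [card_signSub (two_ne_zero_of_odd hodd), Fintype.card_fin] at h3
  exact ⟨E, h1, h2, h3⟩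

theorem exists_elem_odd (hodd : Odd (Fintype.card F)) (m : ℕ)
    (S : Sylow 2 (GL (Fin (2 * m + 1)) F)) :
    ∃ E : Subgroup (S : Subgroup (GL (Fin (2 * m + 1)) F)), E.Normal ∧ Cfsg.IsElementaryAbelian 2 E ∧
      2 ^ (m + 1) ≤ Nat.card E := by
  have h2 := two_ne_zero_of_odd hodd
  let eqv : (Fin 2 × Fin m) ⊕ Unit ≃ Fin (2 * m + 1) := Fintype.equivFinOfCardEq (by simp)
  let f : Wreath (Fin 2) (Fin m) F × Fˣ →* GL (Fin (2 * m + 1)) F :=
    (Wr.glMap (Matrix.reindexAlgEquiv F F eqv)).toMonoidHom.comp
      (extHom.comp (MonoidHom.prodMap wHom (MonoidHom.id Fˣ)))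
  let s : ℤˣ →* Fˣ := Units.map (Int.castRingHom F).toMonoidHom
  haveI := signSub_normal (b := Fin 2) (l := Fin m) (F := F)
  haveI : ((signSub (Fin 2) (Fin m) F).prod s.range).Normal := Subgroup.prod_normal _ _
  have hel : Cfsg.IsElementaryAbelian 2 ((signSub (Fin 2) (Fin m) F).prod s.range) := by
    haveI := (signSub_elem (b := Fin 2) (l := Fin m) (F := F)).1
    refine ⟨⟨⟨fun a c => Subtype.ext (Prod.ext ?_ (mul_comm _ _))⟩⟩, ?_⟩
    · exact congrArg Subtype.val (mul_comm' (⟨a.1.1, a.2.1⟩ : signSub (Fin 2) (Fin m) F) ⟨c.1.1, c.2.1⟩)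
    · rintro ⟨a, c⟩ ⟨ha, u, rfl⟩
      refine Prod.ext (signSub_elem.2 a ha) ?_
      show s u ^ 2 = 1
      rw [← map_pow, Int.units_sq, map_one]
  have hinj : Function.Injective f := fun _ _ h =>
    Function.Injective.prodMap wHom_injective Function.injective_id
      (extHom_injective ((Wr.glMap (Matrix.reindexAlgEquiv F F eqv)).injective h))
  obtain ⟨E, h1, h3, h4⟩ := exists_normal_elem f hinj _ hel (by
    classical
    have hq : 1 < Fintype.card F := Fintype.one_lt_card
    haveI : Finite (Wreath (Fin 2) (Fin m) F) := Finite.of_injective _ wHom_injective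
    rw [Nat.card_prod, Nat.factorization_mul Nat.card_pos.ne' Nat.card_pos.ne', Finsupp.add_apply,
      val_wreath, Fintype.card_fin, H18.val_card_gl2 hodd, H18.val_card_gl hodd,
      Finset.sum_range_succ, H18.sum_val_all hq hodd, H18.val_pow_sub_one_odd hq hodd ⟨m, rfl⟩,
      Nat.card_eq_fintype_card (α := Fˣ), Fintype.card_units]) S
  refine ⟨E, h1, h3, le_trans (le_of_eq ?_) h4⟩
  rw [Nat.card_congr (Subgroup.prodEquiv _ _).toEquiv, Nat.card_prod, card_signSub h2,
    Fintype.card_fin, ← Nat.card_congr (MonoidHom.ofInjective (unitSign_injective h2)).toEquiv,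
    Nat.card_eq_fintype_card, Fintype.card_units_int, pow_succ]

end H39.NR
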