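import Mathlib
import Cfsg.Prelude.Def_Transfer
import Cfsg.Agent.H18.SquaresCounts
import Cfsg.Agent.H39.NormalRank.Model

/-!
Upper bounds for normal elementary abelian subgroups of Sylow 2-subgroups of `GL n q`, `q` odd.
-/

set_option autoImplicit false

namespace H39.NR

open Matrix Module

universe v

variable {F : Type*} [Field F]

theorem exists_eigenbasis (h2 : (2 : F) ≠ 0) : ∀ (d : ℕ) {V : Type v} [AddCommGroup V] [Module F V]
    [FiniteDimensional F V], finrank F V = d → ∀ S : Set (Module.End F V),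
      (∀ s ∈ S, ∀ x, s (s x) = x) → (∀ s ∈ S, ∀ t ∈ S, ∀ x, s (t x) = t (s x)) →
      ∃ b : Basis (Fin d) F V, ∀ s ∈ S, ∀ i, ∃ e : F, (e = 1 ∨ e = -1) ∧ s (b i) = e • b i := by
  intro d
  induction d using Nat.strong_induction_on with
  | _ d ih =>
    intro V _ _ _ hd S hsq hcomm
    by_cases hall : ∀ s ∈ S, (∀ x, s x = x) ∨ (∀ x, s x = -x)
    · refine ⟨finBasisOfFinrankEq F V hd, fun s hs i => ?_⟩
      rcases hall s hs with h | h
      · exact ⟨1, Or.inl rfl, by rw [h, one_smul]⟩
      · exact ⟨-1, Or.inr rfl, by rw [h, neg_smul, one_smul]⟩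
    push Not at hall
    obtain ⟨a, haS, ⟨u, hu⟩, ⟨w, hw⟩⟩ := hall
    let P : Submodule F V := LinearMap.ker (a - 1)
    let M : Submodule F V := LinearMap.ker (a + 1)
    have memP : ∀ x, x ∈ P ↔ a x = x := fun x => by simp [P, sub_eq_zero]
    have memM : ∀ x, x ∈ M ↔ a x = -x := fun x => by simp [M, add_eq_zero_iff_eq_neg]
    have hpos : ∀ x, x + a x ∈ P := fun x => by rw [memP, map_add, hsq a haS, add_comm]
    have hneg : ∀ x, x - a x ∈ M := fun x => by rw [memM, map_sub, hsq a haS, neg_sub]
    have hcompl : IsCompl P M := by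
      constructor
      · rw [Submodule.disjoint_def]
        intro x hx hy
        rw [memP] at hx
        rw [memM, hx] at hy
        have : (2 : F) • x = 0 := by rw [two_smul]; exact add_eq_zero_iff_eq_neg.2 hy
        exact (smul_eq_zero.1 this).resolve_left h2
      · rw [codisjoint_iff, eq_top_iff]
        intro x _
        refine Submodule.mem_sup.2 ⟨(2 : F)⁻¹ • (x + a x), P.smul_mem _ (hpos x),
          (2 : F)⁻¹ • (x - a x), M.smul_mem _ (hneg x), ?_⟩
        rw [← smul_add, add_add_sub_cancel, ← two_smul F, inv_smul_smul₀ h2]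
    have hsum := Submodule.finrank_add_eq_of_isCompl hcompl
    have hP : P ≠ ⊥ := fun h => hw (by
      have := hpos w
      rw [h, Submodule.mem_bot] at this
      exact eq_neg_of_add_eq_zero_right this)
    have hM : M ≠ ⊥ := fun h => hu (by
      have := hneg u
      rw [h, Submodule.mem_bot] at this
      exact (sub_eq_zero.1 this).symm)
    have hP' : 0 < finrank F P := Nat.pos_of_ne_zero fun h => hP (Submodule.finrank_eq_zero.1 h)
    have hM' : 0 < finrank F M := Nat.pos_of_ne_zero fun h => hM (Submodule.finrank_eq_zero.1 h)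
    have hiP : ∀ s ∈ S, ∀ x ∈ P, s x ∈ P := fun s hs x hx => by
      rw [memP] at hx ⊢
      rw [hcomm a haS s hs, hx]
    have hiM : ∀ s ∈ S, ∀ x ∈ M, s x ∈ M := fun s hs x hx => by
      rw [memM] at hx ⊢
      rw [hcomm a haS s hs, hx, map_neg]
    obtain ⟨bP, hbP⟩ := ih (finrank F P) (by omega) (V := P) rfl
      (Set.range fun s : S => (s.1).restrict (hiP s.1 s.2))
      (by rintro _ ⟨s, rfl⟩ x; exact Subtype.ext (hsq _ s.2 _))
      (by rintro _ ⟨s, rfl⟩ _ ⟨t, rfl⟩ x; exact Subtype.ext (hcomm _ s.2 _ t.2 _))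
    obtain ⟨bM, hbM⟩ := ih (finrank F M) (by omega) (V := M) rfl
      (Set.range fun s : S => (s.1).restrict (hiM s.1 s.2))
      (by rintro _ ⟨s, rfl⟩ x; exact Subtype.ext (hsq _ s.2 _))
      (by rintro _ ⟨s, rfl⟩ _ ⟨t, rfl⟩ x; exact Subtype.ext (hcomm _ s.2 _ t.2 _))
    have eqv : Fin (finrank F P) ⊕ Fin (finrank F M) ≃ Fin d := Fintype.equivFinOfCardEq (by simp; omega)
    refine ⟨((bP.prod bM).map (Submodule.prodEquivOfIsCompl P M hcompl)).reindex eqv, fun s hs i => ?_⟩
    simp only [Basis.reindex_apply, Basis.map_apply, Submodule.coe_prodEquivOfIsCompl']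
    generalize eqv.symm i = j
    rcases j with j | j
    · obtain ⟨e, he, h⟩ := hbP _ ⟨⟨s, hs⟩, rfl⟩ j
      refine ⟨e, he, ?_⟩
      have := congrArg Subtype.val h
      simpa using this
    · obtain ⟨e, he, h⟩ := hbM _ ⟨⟨s, hs⟩, rfl⟩ j
      refine ⟨e, he, ?_⟩
      have := congrArg Subtype.val h
      simpa using this

theorem exists_diag {n : ℕ} (h2 : (2 : F) ≠ 0) (E : Subgroup (GL (Fin n) F))
    (hE : Cfsg.IsElementaryAbelian 2 E) :
    ∃ (g : GL (Fin n) F) (c : E → Fin n → F), (∀ e i, c e i = 1 ∨ c e i = -1) ∧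
      ∀ e : E, ((e : GL (Fin n) F) : Matrix (Fin n) (Fin n) F) * (g : Matrix (Fin n) (Fin n) F) =
        (g : Matrix (Fin n) (Fin n) F) * diagonal (c e) := by
  haveI := hE.1
  obtain ⟨b, hb⟩ := exists_eigenbasis h2 n (V := Fin n → F) (by simp)
    (Set.range fun e : E => Matrix.toLin' ((e : GL (Fin n) F) : Matrix (Fin n) (Fin n) F))
    (by
      rintro _ ⟨e, rfl⟩ x
      rw [Matrix.toLin'_apply, Matrix.toLin'_apply, mulVec_mulVec, ← Units.val_mul, ← sq, hE.2 _ e.2,
        Units.val_one, one_mulVec])
    (by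
      rintro _ ⟨e, rfl⟩ _ ⟨e', rfl⟩ x
      simp only [Matrix.toLin'_apply, mulVec_mulVec, ← Units.val_mul]
      rw [show (e : GL (Fin n) F) * e' = e' * e from congrArg Subtype.val (mul_comm' e e')])
  choose c hc hce using fun e : E => hb _ ⟨e, rfl⟩
  have hg : IsUnit (Matrix.of fun i j => b j i) :=
    linearIndependent_cols_iff_isUnit.1 b.linearIndependent
  refine ⟨hg.unit, c, hc, fun e => ?_⟩
  ext i j
  rw [IsUnit.unit_spec, mul_diagonal]
  have := congrFun (hce e j) i
  rw [Matrix.toLin'_apply, Pi.smul_apply, smul_eq_mul] at this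
  rw [Matrix.of_apply, mul_comm (b j i), ← this]
  rfl

section support

variable {n : ℕ} {ρ : Type*} (c : ρ → Fin n → F)

/-- Indices with the same signs. -/
def Same (i j : Fin n) : Prop := ∀ a, c a i = c a j

/-- The indices alone in their class. -/
def Alone (i : Fin n) : Prop := ∀ j, Same c i j → j = i

/-- The matrices permuting the classes. -/
def Permutes (M : Matrix (Fin n) (Fin n) F) : Prop :=
  ∀ i j k l, M i j ≠ 0 → M k l ≠ 0 → (Same c i k ↔ Same c j l)

variable {c}

theorem exists_single {g : GL (Fin n) F} (hg : Permutes c (g : Matrix (Fin n) (Fin n) F))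
    {i : Fin n} (hi : Alone c i) :
    ∃ j, Alone c j ∧ (∀ k, (g : Matrix (Fin n) (Fin n) F) i k ≠ 0 ↔ k = j) ∧
      ∀ k, (g : Matrix (Fin n) (Fin n) F) k j ≠ 0 ↔ k = i := by
  classical
  set M := (g : Matrix (Fin n) (Fin n) F) with hM
  have hinv : ∀ v, M *ᵥ v = 0 → v = 0 := fun v h => by
    have := congrArg (fun w => ((g⁻¹ : GL (Fin n) F) : Matrix (Fin n) (Fin n) F) *ᵥ w) h
    simpa [hM, mulVec_mulVec] using this
  have hcol : ∀ l, ∃ k, M k l ≠ 0 := fun l => by
    by_contra h
    push Not at h
    have := congrFun (hinv (Pi.single l 1) (funext fun k => by simp [h k])) l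
    simp at this
  have hrow : ∃ j, M i j ≠ 0 := by
    by_contra h
    push Not at h
    have e : (M * ((g⁻¹ : GL (Fin n) F) : Matrix (Fin n) (Fin n) F)) i i = 1 := by
      rw [hM, Units.mul_inv, one_apply_eq]
    rw [Matrix.mul_apply, Finset.sum_eq_zero (fun k _ => by rw [h k, zero_mul])] at e
    exact zero_ne_one e
  obtain ⟨j, hj⟩ := hrow
  have hclass : ∀ l, Same c j l → ∀ k, M k l ≠ 0 → k = i := fun l hl k hk =>
    hi k ((hg i j k l hj hk).2 hl)
  have hjA : Alone c j := by
    intro l hl
    by_contra hne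
    have hz : M *ᵥ (Pi.single j (M i l) - Pi.single l (M i j)) = 0 := by
      funext k
      simp only [mulVec_sub, Pi.sub_apply, mulVec_single, Pi.zero_apply]
      by_cases hk : k = i
      · subst hk; simp [mul_comm]
      · have h1 : M k j = 0 := by_contra fun h => hk (hclass j (fun _ => rfl) k h)
        have h3 : M k l = 0 := by_contra fun h => hk (hclass l hl k h)
        simp [h1, h3]
    have := congrFun (hinv _ hz) l
    rw [Pi.sub_apply, Pi.single_eq_same, Pi.single_eq_of_ne hne, zero_sub, Pi.zero_apply,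
      neg_eq_zero] at this
    exact hj this
  refine ⟨j, hjA, fun k => ⟨fun hk => hjA k ((hg i j i k hj hk).1 fun _ => rfl), ?_⟩,
    fun k => ⟨hclass j (fun _ => rfl) k, ?_⟩⟩ <;>
  · rintro rfl
    exact hj

variable [Fintype F]

theorem card_dvd_of_permutes (S : Subgroup (GL (Fin n) F))
    (hS : ∀ g ∈ S, Permutes c (g : Matrix (Fin n) (Fin n) F)) :
    Nat.card S ∣ (Nat.card {i // Alone c i}).factorial *
      ((Fintype.card F - 1) ^ Nat.card {i // Alone c i} *
        Nat.card (GL (Fin (Nat.card {i // ¬ Alone c i})) F)) := by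
  classical
  choose f hfA hfr hfc using fun (g : S) (i : {i // Alone c i}) =>
    exists_single (hS g g.2) i.2
  let π : S → {i // Alone c i} → {i // Alone c i} := fun g i => ⟨f g i, hfA g i⟩
  have πinj : ∀ g, Function.Injective (π g) := fun g i k h => by
    refine Subtype.ext ((hfc g k i.1).1 ?_)
    rw [← show f g i = f g k from congrArg Subtype.val h]
    exact (hfc g i i.1).2 rfl
  let σ : S → Equiv.Perm {i // Alone c i} := fun g =>
    (Equiv.ofBijective (π g) ⟨πinj g, Finite.surjective_of_injective (πinj g)⟩).symm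
  have hmul : ∀ (g h : S) (i : {i // Alone c i}) (k : Fin n),
      ((g * h : S) : GL (Fin n) F).1 i k = (g : GL (Fin n) F).1 i (f g i) * (h : GL (Fin n) F).1 (f g i) k := by
    intro g h i k
    show ((g : GL (Fin n) F).1 * (h : GL (Fin n) F).1) i k = _
    rw [Matrix.mul_apply]
    exact Finset.sum_eq_single _ (fun j _ hj => by
      rw [by_contra fun hne => hj ((hfr g i j).1 hne), zero_mul]) (by simp)
  have hf : ∀ (g h : S) (i), f (g * h) i = f h (π g i) := by
    intro g h i
    refine ((hfr (g * h) i _).1 ?_).symm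
    rw [hmul]
    exact mul_ne_zero ((hfr g i _).2 rfl) ((hfr h (π g i) _).2 rfl)
  let Φ : S →* Equiv.Perm {i // Alone c i} := MonoidHom.mk' σ fun g h => by
    show (Equiv.ofBijective (π (g * h)) _).symm = _
    rw [Equiv.Perm.mul_def, ← Equiv.symm_trans] <;> try rfl
    congr 1
    exact Equiv.ext fun i => Subtype.ext (hf g h i)
  have hker : ∀ g ∈ Φ.ker, ∀ i, f g i = i.1 := fun g hg i => by
    have h1 : (Equiv.ofBijective (π g) _).symm i = i := Equiv.ext_iff.1 hg i
    rw [Equiv.symm_apply_eq] at h1
    exact (congrArg Subtype.val h1).symm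
  have hoff : ∀ (g : S) (k i : Fin n), g ∈ Φ.ker → ¬ Alone c k → Alone c i →
      (g : GL (Fin n) F).1 k i = 0 ∧ (g : GL (Fin n) F).1 i k = 0 := by
    intro g k i hg hk hi
    constructor <;> by_contra hne <;> apply hk
    · have := (hfc g ⟨i, hi⟩ k).1 (by rw [hker g hg]; exact hne)
      exact this ▸ hi
    · have := (hfr g ⟨i, hi⟩ k).1 hne
      rw [hker g hg] at this
      exact this ▸ hi
  let dg : Φ.ker →* ({i // Alone c i} → F) :=
    { toFun := fun g i => (g : GL (Fin n) F).1 i i
      map_one' := funext fun i => by simp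
      map_mul' := fun g h => funext fun i => by
        show ((g.1 * h.1 : S) : GL (Fin n) F).1 i i = _
        rw [hmul, hker _ g.2]
        rfl }
  let blk : Φ.ker →* Matrix {i // ¬ Alone c i} {i // ¬ Alone c i} F :=
    { toFun := fun g => (g : GL (Fin n) F).1.submatrix Subtype.val Subtype.val
      map_one' := by
        show (1 : Matrix (Fin n) (Fin n) F).submatrix _ _ = 1
        exact submatrix_one _ Subtype.val_injective
      map_mul' := fun g h => by
        ext i k
        show ((g : GL (Fin n) F).1 * (h : GL (Fin n) F).1) i k = _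
        rw [Matrix.mul_apply, Matrix.mul_apply,
          ← Fintype.sum_subtype_add_sum_subtype (fun j => Alone c j),
          Finset.sum_eq_zero (fun j _ => by rw [(hoff g.1 i.1 j.1 g.2 i.2 j.2).1, zero_mul]), zero_add]
        rfl }
  let Ψ : Φ.ker →* ({i // Alone c i} → Fˣ) × GL {i // ¬ Alone c i} F :=
    (Pi.monoidHom fun i => ((Pi.evalMonoidHom (fun _ : {i // Alone c i} => F) i).comp dg).toHomUnits).prod
      blk.toHomUnits
  have hΨ : Function.Injective Ψ := by
    intro g h e
    obtain ⟨e1, e2⟩ := Prod.ext_iff.1 e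
    refine Subtype.ext (Subtype.ext (Units.ext (Matrix.ext fun i k => ?_)))
    by_cases hi : Alone c i
    · by_cases hik : k = i
      · subst hik
        exact congrArg Units.val (congrFun e1 ⟨k, hi⟩)
      · have key : ∀ x : Φ.ker, (x : GL (Fin n) F).1 i k = 0 := fun x => by
          by_contra hne
          have := (hfr x.1 ⟨i, hi⟩ k).1 hne
          rw [hker _ x.2] at this
          exact hik this
        rw [key g, key h]
    · by_cases hk : Alone c k
      · rw [(hoff g.1 i k g.2 hi hk).1, (hoff h.1 i k h.2 hi hk).1]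
      · exact congrFun (congrFun (congrArg (fun u : GL {i // ¬ Alone c i} F => u.val) e2) ⟨i, hi⟩) ⟨k, hk⟩
  rw [← Φ.ker.card_mul_index, Subgroup.index_ker, mul_comm]
  refine mul_dvd_mul ?_ ?_
  · rw [← Nat.card_perm]
    exact Φ.range.card_subgroup_dvd_card
  · refine (Subgroup.card_dvd_of_injective Ψ hΨ).trans (dvd_of_eq ?_)
    rw [Nat.card_prod, Nat.card_fun, Nat.card_eq_fintype_card (α := Fˣ), Fintype.card_units,
      Nat.card_congr (Wr.glMap (Matrix.reindexAlgEquiv F F
        (Finite.equivFin {i // ¬ Alone c i}))).toEquiv]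

omit [Fintype F] in
theorem two_mul_classes_le {Q : Type*} [Fintype Q] (κ : Fin n → Q) (hκ : Function.Surjective κ)
    (h : ∀ i j, κ i = κ j ↔ Same c i j) :
    2 * Fintype.card Q ≤ n + Nat.card {i // Alone c i} := by
  classical
  rw [Nat.card_eq_fintype_card, Fintype.card_subtype]
  have e1 : n = ∑ x : Q, (Finset.univ.filter fun i => κ i = x).card := by
    rw [← Finset.card_eq_sum_card_fiberwise (f := κ) (s := Finset.univ) (t := Finset.univ)
      (fun i _ => Finset.mem_univ _)]
    simp
  have e2 : (Finset.univ.filter fun i => Alone c i).card =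
      ∑ x : Q, (Finset.univ.filter fun i => Alone c i ∧ κ i = x).card := by
    rw [Finset.card_eq_sum_card_fiberwise (f := κ) (t := Finset.univ) (fun i _ => Finset.mem_univ _)]
    refine Finset.sum_congr rfl fun x _ => ?_
    rw [Finset.filter_filter]
  refine le_trans (le_of_eq (show 2 * Fintype.card Q = ∑ _x : Q, 2 by simp [mul_comm]))
    (le_trans (Finset.sum_le_sum fun x _ => ?_)
      (le_of_eq (Finset.sum_add_distrib.trans (congrArg₂ (· + ·) e1.symm e2.symm))))
  obtain ⟨i, rfl⟩ := hκ x
  by_cases hi : Alone c i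
  · have h1 : 1 ≤ (Finset.univ.filter fun k => κ k = κ i).card :=
      Finset.card_pos.2 ⟨i, by simp⟩
    have h3 : 1 ≤ (Finset.univ.filter fun k => Alone c k ∧ κ k = κ i).card :=
      Finset.card_pos.2 ⟨i, by simp [hi]⟩
    omega
  · simp only [Alone, not_forall] at hi
    obtain ⟨j, hj, hne⟩ := hi
    have h1 : 2 ≤ (Finset.univ.filter fun k => κ k = κ i).card := by
      rw [← Finset.card_pair hne]
      refine Finset.card_le_card fun k hk => ?_
      simp only [Finset.mem_insert, Finset.mem_singleton] at hk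
      rcases hk with rfl | rfl
      · simp only [Finset.mem_filter, Finset.mem_univ, true_and]
        exact (h _ _).2 fun a => (hj a).symm
      · simp
    omega

theorem val_factor_le (hodd : Odd (Fintype.card F)) (m r : ℕ) :
    r + (m + r).factorial.factorization 2 + (if 2 ≤ r then 1 else 0) +
        ∑ i ∈ Finset.range m, (Fintype.card F ^ (i + 1) - 1).factorization 2 ≤
      m.factorial.factorization 2 +
        ∑ i ∈ Finset.range (m + r), (Fintype.card F ^ (i + 1) - 1).factorization 2 := by
  have hq : 1 < Fintype.card F := Fintype.one_lt_card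
  set q := Fintype.card F
  have hqo := Nat.odd_iff.1 hodd
  have hodd1 : 1 ≤ (q - 1).factorization 2 :=
    (Nat.prime_two).factorization_pos_of_dvd (by omega) (by omega)
  have hsq : 3 ≤ (q ^ 2 - 1).factorization 2 := by
    refine (Nat.Prime.pow_dvd_iff_le_factorization Nat.prime_two ?_).1 ?_
    · have := Nat.one_lt_pow two_ne_zero hq
      omega
    · obtain ⟨k, hk⟩ := hodd
      rw [hk, show (2 * k + 1) ^ 2 - 1 = 4 * (k * (k + 1)) by
        rw [show (2 * k + 1) ^ 2 = 4 * (k * (k + 1)) + 1 by ring]; omega]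
      exact Nat.mul_dvd_mul_left 4 (Nat.even_mul_succ_self k).two_dvd
  have step : ∀ i, 1 + (i + 1).factorization 2 + (if Even (i + 1) then 1 else 0) ≤
      (q ^ (i + 1) - 1).factorization 2 := by
    intro i
    by_cases he : Even (i + 1)
    · obtain ⟨k, hk⟩ := he
      rw [if_pos ⟨k, hk⟩, hk, ← two_mul, H18.val_pow_sub_one_even hq hodd (by omega),
        Nat.factorization_mul (by norm_num) (by omega), Finsupp.add_apply,
        Nat.Prime.factorization_self Nat.prime_two]
      omega
    · rw [if_neg he, H18.val_pow_sub_one_odd hq hodd (Nat.not_even_iff_odd.1 he),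
        Nat.factorization_eq_zero_of_not_dvd (fun h => he (even_iff_two_dvd.2 h))]
      omega
  induction r with
  | zero => simp [add_comm]
  | succ r ih =>
    rw [show m + (r + 1) = m + r + 1 by ring, Finset.sum_range_succ, H18.val_factorial_succ]
    have := step (m + r)
    by_cases hr : 2 ≤ r
    · rw [if_pos (show 2 ≤ r + 1 by omega)]
      rw [if_pos hr] at ih
      split_ifs at this <;> omega
    · rw [if_neg hr] at ih
      by_cases hr1 : r = 1
      · subst hr1
        rw [if_pos le_rfl]
        by_cases he : Even (m + 1 + 1)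
        · rw [if_pos he] at this; omega
        · have hsharp := step m
          rw [if_pos (by simpa [Nat.even_add_one] using he)] at hsharp
          have e0 : m.factorial.factorization 2 + (m + 1).factorization 2 =
              (m + 1).factorial.factorization 2 := (H18.val_factorial_succ m).symm
          rw [Finset.sum_range_succ]
          split_ifs at this <;> omega
      · rw [if_neg (show ¬ 2 ≤ r + 1 by omega)]
        split_ifs at this <;> omega

end support

theorem card_elem_bound [Fintype F] (hodd : Odd (Fintype.card F)) {n : ℕ} (S : Sylow 2 (GL (Fin n) F))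
    (E : Subgroup (S : Subgroup (GL (Fin n) F))) (hn : E.Normal) (hE : Cfsg.IsElementaryAbelian 2 E) :
    Nat.card E ≤ 2 ^ n ∧ (Fintype.card F % 4 = 3 → Nat.card E ≤ 2 ^ ((n + 1) / 2)) := by
  classical
  haveI : Fact (Nat.Prime 2) := ⟨Nat.prime_two⟩
  have h2 := two_ne_zero_of_odd hodd
  set E0 := E.map (S : Subgroup (GL (Fin n) F)).subtype with hE0
  have hE0el : Cfsg.IsElementaryAbelian 2 E0 := by
    refine ⟨⟨⟨fun a b => ?_⟩⟩, ?_⟩
    · obtain ⟨a', ha, ea⟩ := a.2
      obtain ⟨b', hb, eb⟩ := b.2
      apply Subtype.ext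
      show (a : GL (Fin n) F) * b = b * a
      rw [← ea, ← eb, ← map_mul, ← map_mul]
      haveI := hE.1
      exact congrArg _ (congrArg Subtype.val (mul_comm' (⟨a', ha⟩ : E) ⟨b', hb⟩))
    · rintro _ ⟨a, ha, rfl⟩
      rw [← map_pow, hE.2 a ha, map_one]
  have hcardE : Nat.card E0 = Nat.card E :=
    Subgroup.card_map_of_injective (Subgroup.subtype_injective _)
  obtain ⟨g, c, hc, hce⟩ := exists_diag h2 E0 hE0el
  set S' := (S : Subgroup (GL (Fin n) F)).map (MulAut.conj g⁻¹).toMonoidHom with hS'
  have hperm : ∀ x ∈ S', Permutes c (x : Matrix (Fin n) (Fin n) F) := by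
    rintro _ ⟨s, hs, rfl⟩
    set M : GL (Fin n) F := (MulAut.conj g⁻¹).toMonoidHom s with hM
    have key : ∀ e : E0, ∃ e' : E0, ∀ i j, (M : Matrix (Fin n) (Fin n) F) i j ≠ 0 → c e' i = c e j := by
      intro e
      obtain ⟨a, ha, hae⟩ := e.2
      refine ⟨⟨s * (e : GL (Fin n) F) * s⁻¹, ⟨⟨s, hs⟩ * a * ⟨s, hs⟩⁻¹, hn.conj_mem a ha _, ?_⟩⟩, fun i j hij => ?_⟩
      · rw [← hae]; rfl
      · have hd : ∀ x : E0, ((g⁻¹ * (x : GL (Fin n) F) * g : GL (Fin n) F) : Matrix (Fin n) (Fin n) F) =
            diagonal (c x) := fun x => by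
          rw [Units.val_mul, Units.val_mul, mul_assoc, hce x, ← mul_assoc, Units.inv_mul, one_mul]
        set e' : E0 := ⟨s * (e : GL (Fin n) F) * s⁻¹, _⟩
        have he : (g⁻¹ * (e' : GL (Fin n) F) * g) * M = M * (g⁻¹ * (e : GL (Fin n) F) * g) := by
          simp [e', hM, mul_assoc]
        have : (((g⁻¹ * (e' : GL (Fin n) F) * g : GL (Fin n) F) : Matrix (Fin n) (Fin n) F) * M) i j =
            ((M : Matrix (Fin n) (Fin n) F) * ((g⁻¹ * (e : GL (Fin n) F) * g : GL (Fin n) F) : Matrix (Fin n) (Fin n) F)) i j := by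
          rw [← Units.val_mul, ← Units.val_mul, he]
        rw [hd, hd, diagonal_mul, mul_diagonal, mul_comm] at this
        exact mul_left_cancel₀ hij this
    choose τ hτ using key
    have τinj : Function.Injective τ := by
      intro e₁ e₂ h
      have hcol : ∀ j, ∃ i, (M : Matrix (Fin n) (Fin n) F) i j ≠ 0 := fun j => by
        by_contra hh
        push Not at hh
        have e : (((M⁻¹ : GL (Fin n) F) : Matrix (Fin n) (Fin n) F) * M) j j = 1 := by
          rw [Units.inv_mul, one_apply_eq]
        rw [Matrix.mul_apply, Finset.sum_eq_zero (fun k _ => by rw [hh k, mul_zero])] at e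
        exact zero_ne_one e
      have : diagonal (c e₁) = diagonal (c e₂) := by
        congr 1
        funext j
        obtain ⟨i, hi⟩ := hcol j
        rw [← hτ e₁ i j hi, ← hτ e₂ i j hi, h]
      refine Subtype.ext (Units.ext ?_)
      have e1 := hce e₁
      rw [this, ← hce e₂] at e1
      exact (Units.isUnit g).mul_right_cancel e1
    intro i j k l hij hkl
    constructor
    · intro h e
      rw [← hτ e i j hij, ← hτ e k l hkl]
      exact h (τ e)
    · intro h e
      obtain ⟨e', rfl⟩ := Finite.surjective_of_injective τinj e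
      rw [hτ e' i j hij, hτ e' k l hkl]
      exact h e'
  let st : Setoid (Fin n) :=
    ⟨Same c, fun _ _ => rfl, fun h a => (h a).symm, fun h h' a => (h a).trans (h' a)⟩
  let κ : Fin n → Quotient st := Quotient.mk st
  have hκ : Function.Surjective κ := Quotient.mk_surjective
  have hle : Nat.card E ≤ 2 ^ Fintype.card (Quotient st) := by
    let v : E0 → Quotient st → Bool := fun e =>
      Quotient.lift (fun i => decide (c e i = 1)) fun i j (h : Same c i j) => by simp [h e]
    have hv : Function.Injective v := by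
      intro e₁ e₂ h
      have hd : c e₁ = c e₂ := funext fun i => by
        have hne : (1 : F) ≠ -1 := fun hh => h2 (by linear_combination hh)
        have := congrFun h (κ i)
        rcases hc e₁ i with h1 | h1 <;> rcases hc e₂ i with h3 | h3 <;>
          simp [v, κ, h1, h3, hne.symm] at this ⊢
      refine Subtype.ext (Units.ext ?_)
      have e1 := hce e₁
      rw [hd, ← hce e₂] at e1
      exact (Units.isUnit g).mul_right_cancel e1
    rw [← hcardE]
    refine (Nat.card_le_card_of_injective v hv).trans (le_of_eq ?_)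
    rw [Nat.card_fun, Nat.card_eq_fintype_card (α := Bool), Fintype.card_bool,
      Nat.card_eq_fintype_card]
  refine ⟨hle.trans (Nat.pow_le_pow_right two_pos ?_), fun h4 =>
    hle.trans (Nat.pow_le_pow_right two_pos ?_)⟩
  · simpa using Fintype.card_le_of_surjective κ hκ
  have hcl := two_mul_classes_le κ hκ (fun i j => Quotient.eq)
  suffices Nat.card {i // Alone c i} ≤ 1 by omega
  by_contra hr
  have hdvd := card_dvd_of_permutes S' hperm
  have hS'c : Nat.card S' = 2 ^ (Nat.card (GL (Fin n) F)).factorization 2 := by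
    rw [hS', Subgroup.card_map_of_injective (f := (MulAut.conj g⁻¹).toMonoidHom) (MulAut.conj g⁻¹).injective,
      S.card_eq_multiplicity]
  have hsum : Nat.card {i // ¬ Alone c i} + Nat.card {i // Alone c i} = n := by
    rw [Nat.card_eq_fintype_card, Nat.card_eq_fintype_card, Fintype.card_subtype_compl, Fintype.card_fin]
    have := Fintype.card_subtype_le (fun i : Fin n => Alone c i)
    rw [Fintype.card_fin] at this
    omega
  set r := Nat.card {i // Alone c i}
  set m := Nat.card {i // ¬ Alone c i}
  have hq : 1 < Fintype.card F := Fintype.one_lt_card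
  rw [hS'c, Nat.Prime.pow_dvd_iff_le_factorization Nat.prime_two (mul_ne_zero (Nat.factorial_ne_zero _)
      (mul_ne_zero (pow_ne_zero _ (by omega)) Nat.card_pos.ne')),
    Nat.factorization_mul (Nat.factorial_ne_zero _) (mul_ne_zero (pow_ne_zero _ (by omega)) Nat.card_pos.ne'),
    Finsupp.add_apply, Nat.factorization_mul (pow_ne_zero _ (by omega)) Nat.card_pos.ne', Finsupp.add_apply,
    Nat.factorization_pow, Finsupp.smul_apply, smul_eq_mul, H18.val_card_gl hodd, H18.val_card_gl hodd,
    ← hsum] at hdvd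
  have hone : (Fintype.card F - 1).factorization 2 = 1 := by
    have e : Fintype.card F - 1 = 2 * ((Fintype.card F - 1) / 2) := by omega
    rw [e, Nat.factorization_mul (by norm_num) (by omega), Finsupp.add_apply,
      Nat.Prime.factorization_self Nat.prime_two,
      Nat.factorization_eq_zero_of_not_dvd (show ¬ 2 ∣ (Fintype.card F - 1) / 2 by omega)]
  rw [hone, mul_one] at hdvd
  have hv := val_factor_le hodd m r
  rw [if_pos (by omega)] at hv
  have hfac : m.factorial.factorization 2 + r.factorial.factorization 2 ≤ (m + r).factorial.factorization 2 := by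
    rw [← Finsupp.add_apply, ← Nat.factorization_mul (Nat.factorial_ne_zero m) (Nat.factorial_ne_zero r)]
    exact (Nat.factorization_le_iff_dvd (mul_ne_zero (Nat.factorial_ne_zero m) (Nat.factorial_ne_zero r))
      (Nat.factorial_ne_zero _)).2 (Nat.factorial_mul_factorial_dvd_factorial_add m r) 2
  omega

end H39.NR
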